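import Cfsg.Agent.H126.M3.Mat
import Cfsg.Agent.H864.Ore.GlComm
import Cfsg.Agent.H150.MF.Big
import Cfsg.Agent.H162.GaussSL

/-!
# Products of two irreducible elements of `SL_3(K)`, `4 ≤ |K|` (helper126, for S2443, S4171)

* `m3` : every `l` of determinant one which is `1` or not scalar is `Good`;
* `m3_sl`, `m3_lu` : the same in `SL_3(K)`, with conjugating elements.
-/

set_option autoImplicit false

namespace Cfsg.Agent.H126.M3

open Matrix Polynomial

universe u

variable {K : Type u} [Field K]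

/-! ### irreducible elements -/

theorem sq_of_irr [Finite K] {l : Matrix (Fin 3) (Fin 3) K} (hl : l.det = 1) (h : Irreducible l.charpoly) :
    ∃ s : Matrix (Fin 3) (Fin 3) K, s.det = 1 ∧ l = s * s := by
  classical
  set g := l.charpoly with hg
  have : Fact (Irreducible g) := ⟨h⟩
  have : Module.Finite K (AdjoinRoot g) := (AdjoinRoot.powerBasis h.ne_zero).finite
  have : Finite (AdjoinRoot g) := Module.finite_of_finite K
  have : Fintype (AdjoinRoot g) := Fintype.ofFinite _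
  have : Fintype K := Fintype.ofFinite _
  -- squares in `K[l]`
  have key : ∀ p q : K[X], AdjoinRoot.mk g p = AdjoinRoot.mk g q * AdjoinRoot.mk g q →
      aeval l p = aeval l q * aeval l q := by
    intro p q hpq
    rw [← map_mul, ← sub_eq_zero, ← map_sub, AdjoinRoot.mk_eq_zero] at hpq
    obtain ⟨t, ht⟩ := hpq
    have h1 := congrArg (aeval l) ht
    rw [map_sub, map_mul, map_mul, hg, Matrix.aeval_self_charpoly, zero_mul, sub_eq_zero] at h1
    exact h1
  have hsq : IsSquare (AdjoinRoot.mk g X) := by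
    by_cases h2 : ringChar (AdjoinRoot g) = 2
    · exact FiniteField.isSquare_of_char_two h2 _
    by_contra hns
    have h2' : ringChar K ≠ 2 := by
      intro h3
      apply h2
      rw [← h3]
      exact (Algebra.ringChar_eq K (AdjoinRoot g)).symm
    obtain ⟨c, hc⟩ := FiniteField.exists_nonsquare h2'
    have hc0 : c ≠ 0 := by
      rintro rfl
      exact hc (IsSquare.zero)
    have hX0 : AdjoinRoot.mk g X ≠ 0 := by
      intro h3
      apply hns
      rw [h3]
      exact IsSquare.zero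
    have hcc : ∀ d : K, c ^ 3 = d * d → False := by
      intro d hd
      apply hc
      refine ⟨d / c, ?_⟩
      field_simp
      linear_combination hd
    have hC0 : AdjoinRoot.mk g (C c) ≠ 0 := by
      intro h3
      have h4 : algebraMap K (AdjoinRoot g) c = 0 := h3
      rw [map_eq_zero] at h4
      exact hc0 h4
    have hCn : ¬ IsSquare (AdjoinRoot.mk g (C c)) := by
      rintro ⟨y, hy⟩
      obtain ⟨q, rfl⟩ := AdjoinRoot.mk_surjective y
      have h3 := congrArg Matrix.det (key _ _ hy)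
      rw [aeval_C, Matrix.det_mul, Matrix.algebraMap_eq_diagonal, Matrix.det_diagonal] at h3
      simp only [Pi.algebraMap_apply, Algebra.algebraMap_self, RingHom.id_apply, Finset.prod_const, Finset.card_univ,
        Fintype.card_fin] at h3
      exact hcc _ h3
    have hprod : IsSquare (AdjoinRoot.mk g (C c * X)) := by
      rw [map_mul, FiniteField.isSquare_iff h2 (mul_ne_zero hC0 hX0), mul_pow]
      rw [FiniteField.isSquare_iff h2 hC0] at hCn
      rw [FiniteField.isSquare_iff h2 hX0] at hns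
      rw [(FiniteField.pow_dichotomy h2 hC0).resolve_left hCn, (FiniteField.pow_dichotomy h2 hX0).resolve_left hns]
      norm_num
    obtain ⟨y, hy⟩ := hprod
    obtain ⟨q, rfl⟩ := AdjoinRoot.mk_surjective y
    have h3 := congrArg Matrix.det (key _ _ hy)
    rw [map_mul, aeval_C, aeval_X, Matrix.det_mul, Matrix.det_mul, hl, mul_one, Matrix.algebraMap_eq_diagonal,
      Matrix.det_diagonal] at h3
    simp only [Pi.algebraMap_apply, Algebra.algebraMap_self, RingHom.id_apply, Finset.prod_const, Finset.card_univ,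
      Fintype.card_fin] at h3
    exact hcc _ h3
  obtain ⟨y, hy⟩ := hsq
  obtain ⟨q, rfl⟩ := AdjoinRoot.mk_surjective y
  have h1 := key _ _ hy
  rw [aeval_X] at h1
  have h3 := congrArg Matrix.det h1
  rw [hl, Matrix.det_mul] at h3
  rcases mul_self_eq_one_iff.1 h3.symm with h4 | h4
  · exact ⟨_, h4, h1⟩
  · refine ⟨-(aeval l q), ?_, by rw [neg_mul_neg]; exact h1⟩
    rw [Matrix.det_neg, h4, Fintype.card_fin]
    norm_num

theorem good_irr [Finite K] {l : Matrix (Fin 3) (Fin 3) K} (hl : l.det = 1) (h : Irreducible l.charpoly) : Good l := by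
  obtain ⟨s, hs, hss⟩ := sq_of_irr hl h
  have h1 : Irreducible s.charpoly := by
    rw [irr_iff] at h ⊢
    intro x hx
    obtain ⟨v, hv, hv'⟩ := (eval_eq_zero_iff s x).1 hx
    refine h (x * x) ((eval_eq_zero_iff l _).2 ⟨v, hv, ?_⟩)
    rw [hss, ← Matrix.mulVec_mulVec, hv', Matrix.mulVec_smul, hv', smul_smul]
  exact ⟨s, s, hs, hs, hss, h1, h1, Or.inl rfl⟩

/-! ### a simple eigenvalue -/

theorem cu_monic (s r : K) : (cu s r).Monic := by
  unfold cu
  monicity!

theorem cu_natDegree (s r : K) : (cu s r).natDegree = 3 := by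
  unfold cu
  compute_degree!

theorem cu_coeff (s r : K) : (cu s r).coeff 0 = -1 := by
  simp [cu]

theorem good_simple [Finite K] (hq : 4 ≤ Nat.card K) {l : Matrix (Fin 3) (Fin 3) K} (hl : l.det = 1) {x : K}
    {p : K[X]} (hp : l.charpoly = (X - C x) * p) (hx : p.eval x ≠ 0) {s r : K} (hirr : Irreducible (cu s r)) :
    Good l := by
  obtain ⟨Z, h, hZ, hh, hZh⟩ := Cfsg.Agent.H864.Ore.gl_comm hq l hl x p hp hx (cu s r) hirr (cu_monic s r)
    (by rw [cu_natDegree, Fintype.card_fin]) (by rw [Fintype.card_fin]; norm_num)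
  have hZd : Z.det = 1 := by
    rw [Matrix.det_eq_sign_charpoly_coeff, hZ, cu_coeff, Fintype.card_fin]
    norm_num
  have huh : IsUnit h.det := by rw [hh]; exact isUnit_one
  have huZ : IsUnit Z.det := by rw [hZd]; exact isUnit_one
  have h1 : h * h⁻¹ = 1 := Matrix.mul_nonsing_inv _ huh
  have h2 : h⁻¹ * h = 1 := Matrix.nonsing_inv_mul _ huh
  have h3 : Z * Z⁻¹ = 1 := Matrix.mul_nonsing_inv _ huZ
  let U : (Matrix (Fin 3) (Fin 3) K)ˣ := ⟨h, h⁻¹, h1, h2⟩
  have hc : ∀ M : Matrix (Fin 3) (Fin 3) K, (h * M * h⁻¹).charpoly = M.charpoly := fun M =>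
    Matrix.charpoly_units_conj U M
  have hd : ∀ M : Matrix (Fin 3) (Fin 3) K, (h * M * h⁻¹).det = M.det := fun M => Matrix.det_units_conj U M
  have hi : (h * Z * h⁻¹)⁻¹ = h * Z⁻¹ * h⁻¹ := by
    rw [Matrix.mul_inv_rev, Matrix.mul_inv_rev, Matrix.nonsing_inv_nonsing_inv _ huh, mul_assoc]
  refine ⟨h * Z * h⁻¹, Z⁻¹, by rw [hd, hZd], ?_, ?_, by rw [hc, hZ]; exact hirr, ?_, Or.inr ?_⟩
  · have := congrArg Matrix.det h3
    rwa [Matrix.det_mul, hZd, one_mul, Matrix.det_one] at this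
  · rw [← hZh]
    calc l = l * (Z * Z⁻¹) := by rw [h3, mul_one]
      _ = l * Z * (h * h⁻¹) * Z⁻¹ := by rw [h1]; simp only [mul_assoc, mul_one]
      _ = _ := by simp only [mul_assoc]
  · exact irr_inv (by rw [hZ]; exact hirr) h3
  · rw [hi, hc]

/-! ### the theorem -/

theorem exists_cu [Finite K] : ∃ s r : K, Irreducible (cu s r) ∧ ∀ x, (cu s r).eval x ≠ 0 := by
  obtain ⟨p, h1, h2, h3, h4⟩ := Cfsg.Agent.H166.Cov.exists_rootless (F := K) (d := 3) (by norm_num) (e := -1) (by simp)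
  have e : p = cu (-p.coeff 2) (p.coeff 1) := by
    have h5 := h1.as_sum
    rw [h2, Finset.sum_range_succ, Finset.sum_range_succ, Finset.sum_range_one, h3] at h5
    rw [cu]
    nth_rw 1 [h5]
    simp
    ring
  refine ⟨-p.coeff 2, p.coeff 1, ?_, ?_⟩
  · rw [← e]
    exact irr_of_poly h1 h2 h4
  · rw [← e]
    exact h4

theorem exists_ne_ne [Finite K] (hq : 4 ≤ Nat.card K) (x : K) : ∃ a : K, a ≠ 0 ∧ a ≠ x := by
  classical
  have : Fintype K := Fintype.ofFinite K
  by_contra hcon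
  push Not at hcon
  have h1 : (Finset.univ : Finset K) ⊆ {0, x} := by
    intro a _
    rw [Finset.mem_insert, Finset.mem_singleton]
    by_cases ha : a = 0
    · exact Or.inl ha
    · exact Or.inr (hcon a ha)
  have h2 := (Finset.card_le_card h1).trans Finset.card_le_two
  rw [Finset.card_univ, ← Nat.card_eq_fintype_card] at h2
  omega

/-- **the theorem** -/
theorem m3 [Finite K] (hq : 4 ≤ Nat.card K) (l : Matrix (Fin 3) (Fin 3) K) (hl : l.det = 1)
    (hs : l = 1 ∨ ∀ c : K, l ≠ c • (1 : Matrix (Fin 3) (Fin 3) K)) : Good l := by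
  obtain ⟨s, r, hirr, hroot⟩ := exists_cu (K := K)
  rcases hs with rfl | hs
  · exact good_one hirr
  by_cases hl0 : ∀ x, l.charpoly.eval x ≠ 0
  · exact good_irr hl ((irr_iff l).2 hl0)
  push Not at hl0
  obtain ⟨x, hx⟩ := hl0
  obtain ⟨p, hp⟩ := dvd_iff_isRoot.2 hx
  have hpm : p.Monic := (monic_X_sub_C x).of_mul_monic_left (hp ▸ l.charpoly_monic)
  by_cases hpx : p.eval x = 0
  swap
  · exact good_simple hq hl hp hpx hirr
  obtain ⟨p2, hp2⟩ := dvd_iff_isRoot.2 hpx
  have hpm2 : p2.Monic := (monic_X_sub_C x).of_mul_monic_left (hp2 ▸ hpm)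
  have hd : p2.natDegree = 1 := by
    have h1 : l.charpoly.natDegree = 3 := by rw [Matrix.charpoly_natDegree_eq_dim, Fintype.card_fin]
    rw [hp, hp2, (monic_X_sub_C x).natDegree_mul ((monic_X_sub_C x).mul hpm2), (monic_X_sub_C x).natDegree_mul hpm2,
      natDegree_X_sub_C] at h1
    omega
  obtain ⟨y, hy⟩ : ∃ y, p2 = X - C y := by
    refine ⟨-p2.coeff 0, ?_⟩
    have h1 := hpm2.as_sum
    rw [hd, Finset.sum_range_one] at h1
    rw [h1]
    simp
  by_cases hxy : y = x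
  swap
  · refine good_simple (x := y) (p := (X - C x) * (X - C x)) hq hl ?_ ?_ hirr
    · rw [hp, hp2, hy]
      ring
    · simp only [eval_mul, eval_sub, eval_X, eval_C]
      exact mul_ne_zero (sub_ne_zero.2 hxy) (sub_ne_zero.2 hxy)
  -- all eigenvalues are equal
  rw [hxy] at hy
  have hch : l.charpoly = (X - C x) ^ 3 := by
    rw [hp, hp2, hy]
    ring
  have hx3 : x ^ 3 = 1 := by
    have h1 := Matrix.det_eq_sign_charpoly_coeff l
    rw [hl, hch, Fintype.card_fin, coeff_zero_eq_eval_zero] at h1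
    simp only [eval_pow, eval_sub, eval_X, eval_C] at h1
    rw [h1]
    ring
  have hCH : (l - x • (1 : Matrix (Fin 3) (Fin 3) K)) ^ 3 = 0 := by
    have h1 := Matrix.aeval_self_charpoly l
    rw [hch, map_pow, map_sub, aeval_X, aeval_C, Algebra.algebraMap_eq_smul_one] at h1
    exact h1
  have hlN : l = x • (1 + (x ^ 2 • l - 1)) := by
    rw [add_sub_cancel, smul_smul, ← pow_succ', hx3, one_smul]
  have hN3 : (x ^ 2 • l - 1) ^ 3 = 0 := by
    have h1 : x ^ 2 • l - 1 = x ^ 2 • (l - x • (1 : Matrix (Fin 3) (Fin 3) K)) := by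
      rw [smul_sub, smul_smul, ← pow_succ, hx3, one_smul]
    rw [h1, _root_.smul_pow, hCH, smul_zero]
  rw [hlN]
  by_cases h1 : (x ^ 2 • l - 1) = 0
  · exfalso
    apply hs x
    rw [h1, add_zero] at hlN
    exact hlN
  by_cases h2 : (x ^ 2 • l - 1) ^ 2 = 0
  · exact good_tr h2 h1 hx3 hirr hroot
  · exact good_reg hN3 h2 hx3 hirr (exists_ne_ne hq)

/-! ### `SL_3(K)` -/

theorem coe_inv' {n : ℕ} (A : SpecialLinearGroup (Fin n) K) :
    ((A⁻¹ : SpecialLinearGroup (Fin n) K) : Matrix (Fin n) (Fin n) K) = (A : Matrix (Fin n) (Fin n) K)⁻¹ := by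
  change A.1.adjugate = (A.1)⁻¹
  rw [Matrix.inv_def, A.2]
  simp

/-- the property in `SL_3(K)` -/
theorem Good.sl [Finite K] {l : SpecialLinearGroup (Fin 3) K} (h : Good (l : Matrix (Fin 3) (Fin 3) K)) :
    ∃ X Y : SpecialLinearGroup (Fin 3) K, l = X * Y ∧ Irreducible (X : Matrix (Fin 3) (Fin 3) K).charpoly ∧
      Irreducible (Y : Matrix (Fin 3) (Fin 3) K).charpoly ∧
      (((Y : Matrix (Fin 3) (Fin 3) K).charpoly = (X : Matrix (Fin 3) (Fin 3) K).charpoly ∧
          ∃ g : SpecialLinearGroup (Fin 3) K, Y = g * X * g⁻¹) ∨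
        ((Y : Matrix (Fin 3) (Fin 3) K).charpoly = ((X⁻¹ : SpecialLinearGroup (Fin 3) K) : Matrix (Fin 3) (Fin 3) K).charpoly ∧
          ∃ g : SpecialLinearGroup (Fin 3) K, Y = g * X⁻¹ * g⁻¹)) := by
  obtain ⟨X, Y, hX, hY, hl, hXi, hYi, hXY⟩ := h
  obtain ⟨X', rfl⟩ : ∃ X' : SpecialLinearGroup (Fin 3) K, (X' : Matrix (Fin 3) (Fin 3) K) = X := ⟨⟨X, hX⟩, rfl⟩
  obtain ⟨Y', rfl⟩ : ∃ Y' : SpecialLinearGroup (Fin 3) K, (Y' : Matrix (Fin 3) (Fin 3) K) = Y := ⟨⟨Y, hY⟩, rfl⟩
  have hXI : Irreducible ((X'⁻¹ : SpecialLinearGroup (Fin 3) K) : Matrix (Fin 3) (Fin 3) K).charpoly := by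
    rw [coe_inv']
    exact irr_inv hXi (Matrix.mul_nonsing_inv _ (by rw [hX]; exact isUnit_one))
  refine ⟨X', Y', Subtype.ext hl, hXi, hYi, ?_⟩
  rw [← coe_inv'] at hXY
  rcases hXY with h1 | h1
  · exact Or.inl ⟨h1, H150.MF.exists_conj (H150.MF.cls_of_irreducible hXi) (H150.MF.cls_of_irreducible hYi) h1.symm⟩
  · exact Or.inr ⟨h1, H150.MF.exists_conj (H150.MF.cls_of_irreducible hXI)
      (H150.MF.cls_of_irreducible hYi) h1.symm⟩

/-- **`SL_3(K)`** -/
theorem m3_sl [Finite K] (hq : 4 ≤ Nat.card K) (l : SpecialLinearGroup (Fin 3) K)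
    (hs : l = 1 ∨ ∀ c : K, (l : Matrix (Fin 3) (Fin 3) K) ≠ c • (1 : Matrix (Fin 3) (Fin 3) K)) :
    ∃ X Y : SpecialLinearGroup (Fin 3) K, l = X * Y ∧ Irreducible (X : Matrix (Fin 3) (Fin 3) K).charpoly ∧
      Irreducible (Y : Matrix (Fin 3) (Fin 3) K).charpoly ∧
      (((Y : Matrix (Fin 3) (Fin 3) K).charpoly = (X : Matrix (Fin 3) (Fin 3) K).charpoly ∧
          ∃ g : SpecialLinearGroup (Fin 3) K, Y = g * X * g⁻¹) ∨
        ((Y : Matrix (Fin 3) (Fin 3) K).charpoly = ((X⁻¹ : SpecialLinearGroup (Fin 3) K) : Matrix (Fin 3) (Fin 3) K).charpoly ∧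
          ∃ g : SpecialLinearGroup (Fin 3) K, Y = g * X⁻¹ * g⁻¹)) := by
  refine (m3 hq (l : Matrix (Fin 3) (Fin 3) K) l.2 ?_).sl
  rcases hs with rfl | hs
  · exact Or.inl (Matrix.SpecialLinearGroup.coe_one)
  · exact Or.inr hs

/-- **lower times upper unitriangular** -/
theorem m3_lu [Finite K] (hq : 4 ≤ Nat.card K) (v u : SpecialLinearGroup (Fin 3) K) (hv : v ∈ H162.GaussSL.LT 3 K)
    (hu : u ∈ H162.GaussSL.UT 3 K) :
    ∃ X Y : SpecialLinearGroup (Fin 3) K, v * u = X * Y ∧ Irreducible (X : Matrix (Fin 3) (Fin 3) K).charpoly ∧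
      Irreducible (Y : Matrix (Fin 3) (Fin 3) K).charpoly ∧
      (((Y : Matrix (Fin 3) (Fin 3) K).charpoly = (X : Matrix (Fin 3) (Fin 3) K).charpoly ∧
          ∃ g : SpecialLinearGroup (Fin 3) K, Y = g * X * g⁻¹) ∨
        ((Y : Matrix (Fin 3) (Fin 3) K).charpoly = ((X⁻¹ : SpecialLinearGroup (Fin 3) K) : Matrix (Fin 3) (Fin 3) K).charpoly ∧
          ∃ g : SpecialLinearGroup (Fin 3) K, Y = g * X⁻¹ * g⁻¹)) := by
  refine m3_sl hq (v * u) ?_
  by_cases h : v * u = 1
  · exact Or.inl h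
  right
  intro c hc
  apply h
  -- the `(0, 0)` entry is `1`
  have h1 : ((v * u : SpecialLinearGroup (Fin 3) K) : Matrix (Fin 3) (Fin 3) K) 0 0 = 1 := by
    have h2 : ((v * u : SpecialLinearGroup (Fin 3) K) : Matrix (Fin 3) (Fin 3) K) 0 0 =
        ∑ k, (v : Matrix (Fin 3) (Fin 3) K) 0 k * (u : Matrix (Fin 3) (Fin 3) K) k 0 := by
      rw [Matrix.SpecialLinearGroup.coe_mul, Matrix.mul_apply]
    have e1 : (u : Matrix (Fin 3) (Fin 3) K) 1 0 = 0 := hu.1 (i := 1) (j := 0) (by decide)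
    have e2 : (u : Matrix (Fin 3) (Fin 3) K) 2 0 = 0 := hu.1 (i := 2) (j := 0) (by decide)
    have e3 : (u : Matrix (Fin 3) (Fin 3) K) 0 0 = 1 := hu.2 0
    have e4 : (v : Matrix (Fin 3) (Fin 3) K) 0 0 = 1 := hv.2 0
    rw [h2, Fin.sum_univ_three, e1, e2, e3, e4]
    simp
  rw [hc, Matrix.smul_apply, Matrix.one_apply_eq, smul_eq_mul, mul_one] at h1
  apply Subtype.ext
  rw [hc, h1, one_smul]
  exact Matrix.SpecialLinearGroup.coe_one.symm

end Cfsg.Agent.H126.M3
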