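import Mathlib

/-!
# Products of two irreducible elements of `SL_3(K)` : the unipotent cases (helper126, for S2443, S4171)

`Good l` : `l = X * Y` with `X`, `Y` of determinant one and irreducible characteristic polynomials, the characteristic
polynomial of `Y` is that of `X` or of `X⁻¹`.
-/

set_option autoImplicit false

namespace Cfsg.Agent.H126.M3

open Matrix Polynomial

variable {K : Type*} [Field K]

/-- `l` is a product of two irreducible elements with the same or inverse characteristic polynomials -/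
def Good (l : Matrix (Fin 3) (Fin 3) K) : Prop :=
  ∃ X Y : Matrix (Fin 3) (Fin 3) K, X.det = 1 ∧ Y.det = 1 ∧ l = X * Y ∧ Irreducible X.charpoly ∧
    Irreducible Y.charpoly ∧ (Y.charpoly = X.charpoly ∨ Y.charpoly = (X⁻¹).charpoly)

theorem Good.conj {l l' R : Matrix (Fin 3) (Fin 3) K} (h : Good l') (hR : R.det ≠ 0) (hl : l * R = R * l') : Good l := by
  obtain ⟨X, Y, hX, hY, rfl, hXi, hYi, hXY⟩ := h
  have hu : IsUnit R.det := isUnit_iff_ne_zero.2 hR
  have h1 : R * R⁻¹ = 1 := Matrix.mul_nonsing_inv _ hu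
  have h2 : R⁻¹ * R = 1 := Matrix.nonsing_inv_mul _ hu
  let U : (Matrix (Fin 3) (Fin 3) K)ˣ := ⟨R, R⁻¹, h1, h2⟩
  have hc : ∀ M : Matrix (Fin 3) (Fin 3) K, (R * M * R⁻¹).charpoly = M.charpoly := fun M =>
    Matrix.charpoly_units_conj U M
  have hd : ∀ M : Matrix (Fin 3) (Fin 3) K, (R * M * R⁻¹).det = M.det := fun M => Matrix.det_units_conj U M
  have hi : (R * X * R⁻¹)⁻¹ = R * X⁻¹ * R⁻¹ := by
    rw [Matrix.mul_inv_rev, Matrix.mul_inv_rev, Matrix.nonsing_inv_nonsing_inv _ hu, mul_assoc]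
  refine ⟨R * X * R⁻¹, R * Y * R⁻¹, by rw [hd, hX], by rw [hd, hY], ?_, by rw [hc]; exact hXi, by rw [hc]; exact hYi, ?_⟩
  · calc l = l * R * R⁻¹ := by rw [mul_assoc, h1, mul_one]
      _ = R * X * (R⁻¹ * R) * Y * R⁻¹ := by rw [hl, h2]; simp only [mul_assoc, one_mul]
      _ = _ := by simp only [mul_assoc]
  · rw [hc, hc, hi, hc]
    exact hXY

/-! ### the characteristic polynomial -/

theorem charpoly_three (M : Matrix (Fin 3) (Fin 3) K) : M.charpoly = X ^ 3 - C (M 0 0 + M 1 1 + M 2 2) * X ^ 2 +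
    C (M 0 0 * M 1 1 - M 0 1 * M 1 0 + (M 0 0 * M 2 2 - M 0 2 * M 2 0) + (M 1 1 * M 2 2 - M 1 2 * M 2 1)) * X -
    C M.det := by
  rw [Matrix.charpoly, Matrix.det_fin_three, Matrix.det_fin_three]
  simp
  ring

/-- a root is an eigenvalue -/
theorem eval_eq_zero_iff {n : ℕ} (M : Matrix (Fin n) (Fin n) K) (x : K) :
    M.charpoly.eval x = 0 ↔ ∃ v : Fin n → K, v ≠ 0 ∧ M *ᵥ v = x • v := by
  rw [Matrix.eval_charpoly, ← Matrix.exists_mulVec_eq_zero_iff]
  refine exists_congr fun v => and_congr_right fun _ => ?_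
  rw [Matrix.sub_mulVec, sub_eq_zero, eq_comm, Matrix.scalar_apply, ← Matrix.smul_one_eq_diagonal, Matrix.smul_mulVec,
    Matrix.one_mulVec]

theorem irr_iff (M : Matrix (Fin 3) (Fin 3) K) : Irreducible M.charpoly ↔ ∀ x : K, M.charpoly.eval x ≠ 0 := by
  have hd : M.charpoly.natDegree = 3 := by rw [Matrix.charpoly_natDegree_eq_dim, Fintype.card_fin]
  rw [M.charpoly_monic.irreducible_iff_roots_eq_zero_of_degree_le_three (by omega) (by omega)]
  constructor
  · intro h x hx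
    have h1 : x ∈ M.charpoly.roots := (mem_roots M.charpoly_monic.ne_zero).2 hx
    rw [h] at h1
    exact absurd h1 (Multiset.notMem_zero x)
  · intro h
    refine Multiset.eq_zero_of_forall_notMem fun x hx => h x ?_
    exact (mem_roots M.charpoly_monic.ne_zero).1 hx

theorem irr_of_poly {p : K[X]} (hp : p.Monic) (hd : p.natDegree = 3) (h : ∀ x, p.eval x ≠ 0) : Irreducible p := by
  rw [hp.irreducible_iff_roots_eq_zero_of_degree_le_three (by omega) (by omega)]
  refine Multiset.eq_zero_of_forall_notMem fun x hx => h x ?_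
  exact (mem_roots hp.ne_zero).1 hx

theorem irr_inv {M M' : Matrix (Fin 3) (Fin 3) K} (h : Irreducible M.charpoly) (h1 : M * M' = 1) :
    Irreducible M'.charpoly := by
  rw [irr_iff] at h ⊢
  intro x hx
  obtain ⟨v, hv, hv'⟩ := (eval_eq_zero_iff M' x).1 hx
  have h2 : v = x • (M *ᵥ v) := by
    rw [← Matrix.mulVec_smul, ← hv', Matrix.mulVec_mulVec, h1, Matrix.one_mulVec]
  have hx0 : x ≠ 0 := by
    rintro rfl
    rw [zero_smul] at h2
    exact hv h2
  refine h x⁻¹ ((eval_eq_zero_iff M x⁻¹).2 ⟨v, hv, ?_⟩)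
  nth_rw 2 [h2]
  rw [smul_smul, inv_mul_cancel₀ hx0, one_smul]

/-! ### companion matrices -/

/-- the companion matrix -/
def Zm (r s : K) : Matrix (Fin 3) (Fin 3) K := !![0, 0, 1; 1, 0, -s; 0, 1, r]

/-- its inverse -/
def Zi (r s : K) : Matrix (Fin 3) (Fin 3) K := !![s, 1, 0; -r, 0, 1; 1, 0, 0]

/-- unipotent matrices -/
def Um (a b w : K) : Matrix (Fin 3) (Fin 3) K := !![1, a, w; 0, 1, b; 0, 0, 1]

/-- the cubic -/
noncomputable def cu (s r : K) : K[X] := X ^ 3 - C s * X ^ 2 + C r * X - C 1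

theorem Zi_mul (r s : K) : Zi r s * Zm r s = 1 := by
  ext i j
  fin_cases i <;> fin_cases j <;> simp [Zi, Zm, Matrix.mul_apply, Fin.sum_univ_three]

theorem Zm_mul (r s : K) : Zm r s * Zi r s = 1 := by
  ext i j
  fin_cases i <;> fin_cases j <;> simp [Zi, Zm, Matrix.mul_apply, Fin.sum_univ_three]

theorem det_Zi (r s : K) : (Zi r s).det = 1 := by
  simp [Zi, Matrix.det_fin_three]

theorem det_Zm (r s : K) : (Zm r s).det = 1 := by
  simp [Zm, Matrix.det_fin_three]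

theorem charpoly_Zi (r s : K) : (Zi r s).charpoly = cu s r := by
  rw [charpoly_three, det_Zi]
  simp [Zi, cu]

theorem inv_Zi (r s : K) : (Zi r s)⁻¹ = Zm r s := Matrix.inv_eq_right_inv (Zi_mul r s)

theorem mul_Um (r s a b w : K) : Zm r s * Um a b w = !![0, 0, 1; 1, a, w - s; 0, 1, b + r] := by
  ext i j
  fin_cases i <;> fin_cases j <;> simp [Zm, Um, Matrix.mul_apply, Fin.sum_univ_three] <;> ring_nf

theorem det_Y {c : K} (hc : c ^ 3 = 1) (r s a b w : K) : (c • (Zm r s * Um a b w)).det = 1 := by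
  rw [mul_Um, Matrix.det_smul, Fintype.card_fin, hc, one_mul]
  simp [Matrix.det_fin_three]

theorem smul_Y (c r s a b w : K) : c • (Zm r s * Um a b w) =
    !![0, 0, c; c, c * a, c * (w - s); 0, c, c * (b + r)] := by
  rw [mul_Um]
  ext i j
  fin_cases i <;> fin_cases j <;> simp

theorem charpoly_lit (a b c d e f g h i : K) : (!![a, b, c; d, e, f; g, h, i] : Matrix (Fin 3) (Fin 3) K).charpoly =
    X ^ 3 - C (a + e + i) * X ^ 2 + C (a * e - b * d + (a * i - c * g) + (e * i - f * h)) * X -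
      C (!![a, b, c; d, e, f; g, h, i] : Matrix (Fin 3) (Fin 3) K).det :=
  charpoly_three _

theorem charpoly_Y {c : K} (hc : c ^ 3 = 1) {r s a b w : K} (h1 : a + b = c ^ 2 * s - r)
    (hw : w = a * (b + r) + s - c * r) : (c • (Zm r s * Um a b w)).charpoly = cu s r := by
  have h0 := det_Y hc r s a b w
  rw [smul_Y] at h0 ⊢
  have e1 : 0 + c * a + c * (b + r) = s := by
    have h2 : c * (a + b) = c ^ 3 * s - c * r := by
      rw [h1]
      ring
    linear_combination h2 + s * hc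
  have e2 : 0 * (c * a) - 0 * c + (0 * (c * (b + r)) - c * 0) + (c * a * (c * (b + r)) - c * (w - s) * c) = r := by
    rw [hw]
    linear_combination r * hc
  rw [charpoly_lit, h0, e1, e2, cu]

/-- the product -/
theorem good_cU {c : K} (hc : c ^ 3 = 1) {r s a b w : K} (hirr : Irreducible (cu s r)) (h1 : a + b = c ^ 2 * s - r)
    (hw : w = a * (b + r) + s - c * r) : Good (c • Um a b w) := by
  refine ⟨Zi r s, c • (Zm r s * Um a b w), det_Zi r s, det_Y hc r s a b w, ?_, by rw [charpoly_Zi]; exact hirr,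
    by rw [charpoly_Y hc h1 hw]; exact hirr, Or.inl ?_⟩
  · rw [Matrix.mul_smul, ← mul_assoc, Zi_mul, one_mul]
  · rw [charpoly_Y hc h1 hw, charpoly_Zi]

theorem cu_eval (s r x : K) : (cu s r).eval x = x ^ 3 - s * x ^ 2 + r * x - 1 := by
  simp [cu]

theorem sigma_ne {c : K} (hc : c ^ 3 = 1) {r s : K} (hirr : ∀ x, (cu s r).eval x ≠ 0) : c ^ 2 * s - r ≠ 0 := by
  intro h
  apply hirr (c ^ 2)
  rw [cu_eval]
  have h1 : r = c ^ 2 * s := by rw [eq_comm, ← sub_eq_zero, h]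
  have h2 : c ^ 6 = 1 := by rw [show 6 = 3 * 2 by norm_num, pow_mul, hc, one_pow]
  have h3 : c ^ 4 = c := by rw [show 4 = 3 + 1 by norm_num, pow_add, hc, one_mul, pow_one]
  rw [h1]
  linear_combination h2 + (c ^ 4 * 0) * h3

/-! ### similarity of nilpotent matrices -/

/-- the regular nilpotent matrix -/
def Jr : Matrix (Fin 3) (Fin 3) K := !![0, 1, 0; 0, 0, 1; 0, 0, 0]

/-- the nilpotent matrix of rank one -/
def Jt : Matrix (Fin 3) (Fin 3) K := !![0, 1, 0; 0, 0, 0; 0, 0, 0]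

/-- the matrix with given columns -/
def colm (u v w : Fin 3 → K) : Matrix (Fin 3) (Fin 3) K := Matrix.of fun i j => ![u i, v i, w i] j

theorem colm_mulVec (u v w x : Fin 3 → K) : colm u v w *ᵥ x = x 0 • u + x 1 • v + x 2 • w := by
  ext i
  simp [colm, Matrix.mulVec, dotProduct, Fin.sum_univ_three]
  ring

theorem mul_colm (N : Matrix (Fin 3) (Fin 3) K) (u v w : Fin 3 → K) :
    N * colm u v w = colm (N *ᵥ u) (N *ᵥ v) (N *ᵥ w) := by
  ext i j
  fin_cases j <;> simp [colm, Matrix.mul_apply, Matrix.mulVec, dotProduct]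

theorem colm_Jr (u v w : Fin 3 → K) : colm u v w * Jr = colm 0 u v := by
  ext i j
  fin_cases j <;> simp [colm, Jr, Matrix.mul_apply, Fin.sum_univ_three]

theorem colm_Jt (u v w : Fin 3 → K) : colm u v w * Jt = colm 0 u 0 := by
  ext i j
  fin_cases j <;> simp [colm, Jt, Matrix.mul_apply, Fin.sum_univ_three]

theorem det_colm_ne {u v w : Fin 3 → K} (h : ∀ a b c : K, a • u + b • v + c • w = 0 → a = 0 ∧ b = 0 ∧ c = 0) :
    (colm u v w).det ≠ 0 := by
  intro h0
  obtain ⟨x, hx, hx0⟩ := Matrix.exists_mulVec_eq_zero_iff.2 h0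
  rw [colm_mulVec] at hx0
  obtain ⟨h1, h2, h3⟩ := h _ _ _ hx0
  apply hx
  ext i
  fin_cases i
  · exact h1
  · exact h2
  · exact h3

theorem exists_vec {N : Matrix (Fin 3) (Fin 3) K} (h : N ≠ 0) : ∃ v, N *ᵥ v ≠ 0 := by
  by_contra hcon
  push Not at hcon
  apply h
  ext i j
  have h1 := congrFun (hcon (Pi.single j 1)) i
  rw [Matrix.mulVec_single_one] at h1
  exact h1

theorem sim_reg {N : Matrix (Fin 3) (Fin 3) K} (h3 : N ^ 3 = 0) (h2 : N ^ 2 ≠ 0) :
    ∃ P : Matrix (Fin 3) (Fin 3) K, P.det ≠ 0 ∧ N * P = P * Jr := by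
  obtain ⟨v, hv⟩ := exists_vec h2
  have e2 : N ^ 2 *ᵥ v = N *ᵥ (N *ᵥ v) := by rw [Matrix.mulVec_mulVec, pow_two]
  have e3 : N *ᵥ (N *ᵥ (N *ᵥ v)) = 0 := by
    rw [Matrix.mulVec_mulVec, Matrix.mulVec_mulVec, ← pow_three', h3, Matrix.zero_mulVec]
  rw [e2] at hv
  refine ⟨colm (N *ᵥ (N *ᵥ v)) (N *ᵥ v) v, det_colm_ne ?_, ?_⟩
  · intro a b c h
    have f1 := congrArg (fun x => N *ᵥ x) h
    simp only [Matrix.mulVec_add, Matrix.mulVec_smul, e3, Matrix.mulVec_zero, smul_zero, zero_add] at f1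
    have f2 := congrArg (fun x => N *ᵥ x) f1
    simp only [Matrix.mulVec_add, Matrix.mulVec_smul, e3, Matrix.mulVec_zero, smul_zero, zero_add] at f2
    have hc : c = 0 := (smul_eq_zero.1 f2).resolve_right hv
    rw [hc, zero_smul, add_zero] at f1
    have hb : b = 0 := (smul_eq_zero.1 f1).resolve_right hv
    rw [hc, hb, zero_smul, zero_smul, add_zero, add_zero] at h
    exact ⟨(smul_eq_zero.1 h).resolve_right hv, hb, hc⟩
  · rw [mul_colm, colm_Jr, e3]

theorem sim_tr {N : Matrix (Fin 3) (Fin 3) K} (h2 : N ^ 2 = 0) (h1 : N ≠ 0) :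
    ∃ P : Matrix (Fin 3) (Fin 3) K, P.det ≠ 0 ∧ N * P = P * Jt := by
  obtain ⟨v, hv⟩ := exists_vec h1
  have e2 : ∀ x, N *ᵥ (N *ᵥ x) = 0 := fun x => by rw [Matrix.mulVec_mulVec, ← pow_two, h2, Matrix.zero_mulVec]
  -- the kernel
  obtain ⟨k, hk, hk'⟩ : ∃ k, N *ᵥ k = 0 ∧ ∀ a : K, k ≠ a • (N *ᵥ v) := by
    by_contra hcon
    push Not at hcon
    have h3 : LinearMap.ker N.mulVecLin ≤ Submodule.span K {N *ᵥ v} := by
      intro x hx
      obtain ⟨a, ha⟩ := hcon x hx
      rw [ha]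
      exact Submodule.smul_mem _ _ (Submodule.mem_span_singleton_self _)
    have h4 : LinearMap.range N.mulVecLin ≤ LinearMap.ker N.mulVecLin := by
      rintro _ ⟨x, rfl⟩
      exact e2 x
    have h5 := Submodule.finrank_mono h3
    have h6 := Submodule.finrank_mono h4
    rw [finrank_span_singleton hv] at h5
    have h7 := LinearMap.finrank_range_add_finrank_ker N.mulVecLin
    rw [Module.finrank_fintype_fun_eq_card, Fintype.card_fin] at h7
    omega
  refine ⟨colm (N *ᵥ v) v k, det_colm_ne ?_, ?_⟩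
  · intro a b c h
    have f1 := congrArg (fun x => N *ᵥ x) h
    simp only [Matrix.mulVec_add, Matrix.mulVec_smul, e2, hk, Matrix.mulVec_zero, smul_zero, zero_add, add_zero] at f1
    have hb : b = 0 := (smul_eq_zero.1 f1).resolve_right hv
    rw [hb, zero_smul, add_zero] at h
    have hc : c = 0 := by
      by_contra hc
      apply hk' (-(c⁻¹ * a))
      have h3 : k = c⁻¹ • (c • k) := by rw [smul_smul, inv_mul_cancel₀ hc, one_smul]
      rw [h3, ← neg_eq_of_add_eq_zero_right h, smul_neg, smul_smul, neg_smul]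
    rw [hc, zero_smul, add_zero] at h
    exact ⟨(smul_eq_zero.1 h).resolve_right hv, hb, hc⟩
  · rw [mul_colm, colm_Jt, e2, hk]

theorem sim_trans {N M J P Q : Matrix (Fin 3) (Fin 3) K} (hP : P.det ≠ 0) (hN : N * P = P * J) (hQ : Q.det ≠ 0)
    (hM : M * Q = Q * J) : ∃ R : Matrix (Fin 3) (Fin 3) K, R.det ≠ 0 ∧ N * R = R * M := by
  have hu : IsUnit Q.det := isUnit_iff_ne_zero.2 hQ
  have h1 : Q * Q⁻¹ = 1 := Matrix.mul_nonsing_inv _ hu
  have h2 : Q⁻¹ * Q = 1 := Matrix.nonsing_inv_mul _ hu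
  refine ⟨P * Q⁻¹, ?_, ?_⟩
  · rw [Matrix.det_mul, Matrix.det_nonsing_inv]
    exact mul_ne_zero hP (by rw [Ring.inverse_eq_inv']; exact inv_ne_zero hQ)
  · have h3 : J * Q⁻¹ = Q⁻¹ * M := by
      calc J * Q⁻¹ = Q⁻¹ * (Q * J) * Q⁻¹ := by rw [← mul_assoc, h2, one_mul]
        _ = _ := by rw [← hM, mul_assoc, mul_assoc, h1, mul_one]
    rw [← mul_assoc, hN, mul_assoc, h3, mul_assoc]

/-! ### the unipotent cases -/

theorem Um_eq (a b w : K) : Um a b w = 1 + !![0, a, w; 0, 0, b; 0, 0, 0] := by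
  ext i j
  fin_cases i <;> fin_cases j <;> simp [Um]

theorem good_of_sim {N M : Matrix (Fin 3) (Fin 3) K} {c : K} (h : Good (c • (1 + M)))
    (hs : ∃ R : Matrix (Fin 3) (Fin 3) K, R.det ≠ 0 ∧ N * R = R * M) : Good (c • (1 + N)) := by
  obtain ⟨R, hR, h1⟩ := hs
  refine h.conj hR ?_
  rw [Matrix.smul_mul, Matrix.mul_smul, add_mul, mul_add, h1, one_mul, mul_one]

theorem good_tr {N : Matrix (Fin 3) (Fin 3) K} (h2 : N ^ 2 = 0) (h1 : N ≠ 0) {c : K} (hc : c ^ 3 = 1) {s r : K}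
    (hirr : Irreducible (cu s r)) (hroot : ∀ x, (cu s r).eval x ≠ 0) : Good (c • (1 + N)) := by
  have hσ := sigma_ne hc hroot
  have hg := good_cU hc (a := c ^ 2 * s - r) (b := 0) (w := (c ^ 2 * s - r) * (0 + r) + s - c * r) hirr (by ring) rfl
  rw [Um_eq] at hg
  refine good_of_sim hg ?_
  obtain ⟨P, hP, hP'⟩ := sim_tr h2 h1
  obtain ⟨Q, hQ, hQ'⟩ := sim_tr (K := K)
    (N := !![0, c ^ 2 * s - r, (c ^ 2 * s - r) * (0 + r) + s - c * r; 0, 0, 0; 0, 0, 0]) (by
      rw [pow_two]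
      ext i j
      fin_cases i <;> fin_cases j <;> simp [Matrix.mul_apply, Fin.sum_univ_three]) (by
      intro h
      apply hσ
      have := congrFun (congrFun h 0) 1
      simpa using this)
  exact sim_trans hP hP' hQ hQ'

theorem good_reg {N : Matrix (Fin 3) (Fin 3) K} (h3 : N ^ 3 = 0) (h2 : N ^ 2 ≠ 0) {c : K} (hc : c ^ 3 = 1) {s r : K}
    (hirr : Irreducible (cu s r)) (hK : ∀ x : K, ∃ a : K, a ≠ 0 ∧ a ≠ x) : Good (c • (1 + N)) := by
  obtain ⟨a, ha, ha'⟩ := hK (c ^ 2 * s - r)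
  have hb : c ^ 2 * s - r - a ≠ 0 := sub_ne_zero.2 ha'.symm
  have hg := good_cU hc (a := a) (b := c ^ 2 * s - r - a) (w := a * (c ^ 2 * s - r - a + r) + s - c * r) hirr
    (by ring) rfl
  rw [Um_eq] at hg
  refine good_of_sim hg ?_
  obtain ⟨P, hP, hP'⟩ := sim_reg h3 h2
  generalize c ^ 2 * s - r - a = b at hb
  generalize a * (b + r) + s - c * r = w
  have e2 : (!![0, a, w; 0, 0, b; 0, 0, 0] : Matrix (Fin 3) (Fin 3) K) ^ 2 = !![0, 0, a * b; 0, 0, 0; 0, 0, 0] := by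
    rw [pow_two]
    ext i j
    fin_cases i <;> fin_cases j <;> simp [Matrix.mul_apply, Fin.sum_univ_three]
  obtain ⟨Q, hQ, hQ'⟩ := sim_reg (K := K) (N := !![0, a, w; 0, 0, b; 0, 0, 0]) (by
      rw [pow_succ, e2]
      ext i j
      fin_cases i <;> fin_cases j <;> simp [Matrix.mul_apply, Fin.sum_univ_three]) (by
      rw [e2]
      intro h
      have := congrFun (congrFun h 0) 2
      exact mul_ne_zero ha hb (by simpa using this))
  exact sim_trans hP hP' hQ hQ'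

/-- the identity -/
theorem good_one {s r : K} (hirr : Irreducible (cu s r)) : Good (1 : Matrix (Fin 3) (Fin 3) K) := by
  refine ⟨Zi r s, Zm r s, det_Zi r s, det_Zm r s, (Zi_mul r s).symm, by rw [charpoly_Zi]; exact hirr, ?_, Or.inr ?_⟩
  · exact irr_inv (by rw [charpoly_Zi]; exact hirr) (Zi_mul r s)
  · rw [inv_Zi]

end Cfsg.Agent.H126.M3
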